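import Groth.Prelude.Def_EtBase
import Groth.Agent.LccRepLib.Local
import Groth.Agent.S0099
import Mathlib.Algebra.Module.LocalizedModule.Basic
import Mathlib.CategoryTheory.Functor.OfSequence
import Mathlib.Data.Nat.Pairing

/-!
# Localisation of étale sheaves at multiplicative sets of integers
-/

set_option autoImplicit false
set_option linter.style.haveILetI false
set_option backward.isDefEq.respectTransparency.types false
set_option backward.isDefEq.respectTransparency false

universe u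

open CategoryTheory CategoryTheory.Limits AlgebraicGeometry Opposite

noncomputable section

namespace Groth.Agent.EtLocalize

open Groth.Agent Groth.Agent.EtaleSite Groth.Agent.LccRepLib

variable {X : Scheme.{u}}

theorem zsmul_id_app (G : EtCoh.Ab X) (a : ℤ) (U : X.Etale) (t : G.obj.obj (op U)) :
    (a • 𝟙 G : G ⟶ G).hom.app (op U) t = a • t :=
  map_zsmul (AddMonoidHom.mk' (fun f : G ⟶ G => f.hom.app (op U) t) fun _ _ => rfl) a (𝟙 G)

theorem zsmul_id_comp {C : Type*} [Category C] [Preadditive C] (G : C) (a b : ℤ) :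
    (a • 𝟙 G) ≫ (b • 𝟙 G) = (b * a) • 𝟙 G := by
  rw [Preadditive.zsmul_comp, Category.id_comp, smul_smul, mul_comm]

/-- Every geometric point of an étale scheme has an affine étale neighbourhood. -/
theorem exists_affine_nbhd {Ω : Type u} [Field Ω] [IsSepClosed Ω]
    (ξ : Spec (CommRingCat.of Ω) ⟶ X) (W : X.Etale) (φ : (Scheme.pointSmallEtale ξ).fiber.obj W) :
    ∃ (V : X.Etale) (g : V ⟶ W) (ψ : (Scheme.pointSmallEtale ξ).fiber.obj V),
      IsAffine V.left ∧ (Scheme.pointSmallEtale ξ).fiber.map g ψ = φ := by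
  obtain ⟨_, ⟨O, hO, rfl⟩, hv, -⟩ := W.left.isBasis_affineOpens.exists_subset_of_mem_open
    (Set.mem_univ (φ.left (default : Spec (CommRingCat.of Ω)))) isOpen_univ
  obtain ⟨ψ, hψ⟩ := exists_fiber_lift ξ (pieceHom W O) φ (⟨_, hv⟩ : O) rfl
  exact ⟨piece W O, pieceHom W O, ψ, hO, hψ⟩

variable (S : Submonoid ℤ) {F G : EtCoh.Ab X} (φ : F ⟶ G)
  (hφ : ∀ U : X.Etale, IsAffine U.left →
    IsLocalizedModule S (φ.hom.app (op U)).hom.toIntLinearMap)

include hφ in
theorem isIso_zsmul (a : S) : IsIso ((a : ℤ) • 𝟙 G) := by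
  have hu : ∀ U : X.Etale, IsAffine U.left →
      Function.Bijective fun t : G.obj.obj (op U) => (a : ℤ) • t := fun U hU =>
    (Module.End.isUnit_iff _).1 ((hφ U hU).map_units a)
  refine isIso_of_stalk _ fun Ω _ _ ξ => ?_
  refine (ConcreteCategory.isIso_iff_bijective _).2
    ⟨(injective_iff_map_eq_zero ((EtCoh.stalk ξ).map ((a : ℤ) • 𝟙 G)).hom).2 fun p hp => ?_,
      fun p => ?_⟩
  · obtain ⟨U, x, t, rfl⟩ := exists_germ_eq ξ G p
    have h1 : germ ξ G U x (((a : ℤ) • 𝟙 G : G ⟶ G).hom.app (op U) t) = germ ξ G U x 0 := by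
      rw [← germ_naturality, map_zero]; exact hp
    obtain ⟨W, g, w, hw, he⟩ := (germ_eq_iff ξ G U x _ _).1 h1
    obtain ⟨V, k, v, hV, hk⟩ := exists_affine_nbhd ξ W w
    have h2 : res G (k ≫ g) t = 0 := (hu V hV).1 (by
      show (a : ℤ) • res G (k ≫ g) t = (a : ℤ) • 0
      rw [smul_zero, ← zsmul_id_app]
      rw [zsmul_id_app] at he
      rw [zsmul_id_app]
      calc (a : ℤ) • res G (k ≫ g) t = res G (k ≫ g) ((a : ℤ) • t) :=
            (map_zsmul (G.obj.map (k ≫ g).op).hom _ _).symm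
        _ = res G k (res G g ((a : ℤ) • t)) := res_comp G k g _
        _ = res G k (res G g 0) := congrArg (res G k) he
        _ = 0 := by simp [LccRepLib.res])
    rw [← hw, ← hk, ← germ_res, ← germ_res]
    show germ ξ G V v (res G k (res G g t)) = 0
    rw [← res_comp, h2, map_zero]
  · obtain ⟨U, x, t, rfl⟩ := exists_germ_eq ξ G p
    obtain ⟨V, k, v, hV, hk⟩ := exists_affine_nbhd ξ U x
    obtain ⟨t', ht'⟩ := (hu V hV).2 (G.obj.map k.op t)
    refine ⟨germ ξ G V v t', ?_⟩
    show (EtCoh.stalk ξ).map ((a : ℤ) • 𝟙 G) (germ ξ G V v t') = _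
    rw [germ_naturality, zsmul_id_app, ← hk, ← germ_res]
    exact congrArg (germ ξ G V v) ht'

variable (s : ℕ → S)

/-- The partial products. -/
def prodSeq : ℕ → S
  | 0 => 1
  | n + 1 => s n * prodSeq n

/-- The sequence of multiplications on `F`. -/
def seqDiagram (F : EtCoh.Ab X) : ℕ ⥤ EtCoh.Ab X :=
  Functor.ofSequence (X := fun _ => F) fun n => (s n : ℤ) • 𝟙 F

theorem exists_seqDiagram_map (F : EtCoh.Ab X) :
    ∀ {i j : ℕ} (h : i ≤ j), ∃ c : S, (seqDiagram S s F).map (homOfLE h) = (c : ℤ) • 𝟙 F := by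
  intro i j h
  obtain ⟨k, rfl⟩ := Nat.exists_eq_add_of_le h
  induction k with
  | zero => exact ⟨1, by rw [OneMemClass.coe_one, one_smul]; exact (seqDiagram S s F).map_id i⟩
  | succ k ih =>
    obtain ⟨c, hc⟩ := ih (Nat.le_add_right i k)
    refine ⟨s (i + k) * c, ?_⟩
    have h1 : (seqDiagram S s F).map (homOfLE h) =
        (seqDiagram S s F).map (homOfLE (Nat.le_add_right i k)) ≫
          (seqDiagram S s F).map (homOfLE (Nat.le_add_right (i + k) 1)) := by
      rw [← Functor.map_comp]; rfl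
    refine h1.trans ?_
    rw [hc, Submonoid.coe_mul, ← zsmul_id_comp]
    exact congrArg (((c : ℤ) • 𝟙 F) ≫ ·) (Functor.ofSequence_map_homOfLE_succ _ (i + k))

/-- Every element of `S` divides a transition map beyond each stage. -/
theorem exists_seqDiagram_dvd (F : EtCoh.Ab X) (hs : ∀ a n, ∃ k, n ≤ k ∧ s k = a) (a : S) (n : ℕ) :
    ∃ (N : ℕ) (h : n ≤ N) (d : S),
      (seqDiagram S s F).map (homOfLE h) = ((d : ℤ) * (a : ℤ)) • 𝟙 F := by
  obtain ⟨k, hk, rfl⟩ := hs a n
  obtain ⟨c, hc⟩ := exists_seqDiagram_map S s F hk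
  refine ⟨k + 1, hk.trans (Nat.le_add_right k 1), c, ?_⟩
  have h1 : (seqDiagram S s F).map (homOfLE (hk.trans (Nat.le_add_right k 1))) =
      (seqDiagram S s F).map (homOfLE hk) ≫
        (seqDiagram S s F).map (homOfLE (Nat.le_add_right k 1)) := by
    rw [← Functor.map_comp]; rfl
  refine h1.trans ?_
  rw [hc, mul_comm, ← zsmul_id_comp]
  exact congrArg (((c : ℤ) • 𝟙 F) ≫ ·) (Functor.ofSequence_map_homOfLE_succ _ k)

/-- The comparison maps `m⁻¹ φ`. -/
def seqComp (n : ℕ) : F ⟶ G :=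
  haveI := isIso_zsmul S φ hφ (prodSeq S s n)
  φ ≫ inv ((prodSeq S s n : ℤ) • 𝟙 G)

theorem seqComp_comp (n : ℕ) : seqComp S φ hφ s n ≫ ((prodSeq S s n : ℤ) • 𝟙 G) = φ := by
  haveI := isIso_zsmul S φ hφ (prodSeq S s n)
  rw [seqComp, Category.assoc, IsIso.inv_hom_id, Category.comp_id]

theorem seqComp_zero : seqComp S φ hφ s 0 = φ := by
  have h := seqComp_comp S φ hφ s 0
  rw [show ((prodSeq S s 0 : S) : ℤ) = 1 from rfl, one_smul] at h
  simpa using h

theorem seqComp_succ (n : ℕ) :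
    ((s n : ℤ) • 𝟙 F) ≫ seqComp S φ hφ s (n + 1) = seqComp S φ hφ s n := by
  haveI := isIso_zsmul S φ hφ (prodSeq S s (n + 1))
  rw [← cancel_mono ((prodSeq S s (n + 1) : ℤ) • 𝟙 G), Category.assoc, seqComp_comp,
    show ((prodSeq S s (n + 1) : S) : ℤ) = (s n : ℤ) * (prodSeq S s n : ℤ) from rfl,
    ← zsmul_id_comp, ← Category.assoc, seqComp_comp]
  simp

/-- The cocone exhibiting `G` as the colimit of the sequence. -/
def seqCocone : Cocone (seqDiagram S s F) where
  pt := G
  ι := NatTrans.ofSequence (fun n => seqComp S φ hφ s n) fun n => by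
    refine Eq.trans ?_ (Category.comp_id _).symm
    refine (congrArg (· ≫ seqComp S φ hφ s (n + 1)) (Functor.ofSequence_map_homOfLE_succ _ n)).trans ?_
    exact seqComp_succ S φ hφ s n

theorem nonempty_isColimit_seqCocone (hs : ∀ a n, ∃ k, n ≤ k ∧ s k = a) :
    Nonempty (IsColimit (seqCocone S φ hφ s)) := by
  let D := seqDiagram S s F
  let d := (colimit.isColimit D).desc (seqCocone S φ hφ s)
  suffices IsIso d from ⟨IsColimit.ofIsoColimit (colimit.isColimit _)
    (Cocone.ext (asIso d) fun n => (colimit.isColimit _).fac (seqCocone S φ hφ s) n)⟩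
  haveI : PreservesFilteredColimitsOfSize.{0, 0} (forget AddCommGrpCat.{u + 1}) :=
    preservesFilteredColimitsOfSize_shrink _
  refine isIso_of_stalk d fun Ω _ _ ξ => ?_
  have hcolim := isColimitOfPreserves (EtCoh.stalk ξ) (colimit.isColimit D)
  have hfac : ∀ n, (EtCoh.stalk ξ).map (colimit.ι D n) ≫ (EtCoh.stalk ξ).map d =
      (EtCoh.stalk ξ).map (seqComp S φ hφ s n) := fun n => by
    rw [← Functor.map_comp]
    exact congrArg _ ((colimit.isColimit _).fac (seqCocone S φ hφ s) n)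
  refine (ConcreteCategory.isIso_iff_bijective _).2
    ⟨(injective_iff_map_eq_zero ((EtCoh.stalk ξ).map d).hom).2 fun z hz => ?_, fun p => ?_⟩
  · obtain ⟨n, q, rfl⟩ := Concrete.isColimit_exists_rep _ hcolim z
    obtain ⟨U, x, t, rfl⟩ := exists_germ_eq ξ F q
    have h1 : germ ξ G U x ((seqComp S φ hφ s n).hom.app (op U) t) = germ ξ G U x 0 := by
      rw [← germ_naturality, map_zero]
      exact (ConcreteCategory.congr_hom (hfac n) _).symm.trans hz
    have h2 : germ ξ G U x (φ.hom.app (op U) t) = germ ξ G U x 0 := by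
      rw [← seqComp_comp S φ hφ s n]
      show germ ξ G U x (((prodSeq S s n : ℤ) • 𝟙 G : G ⟶ G).hom.app (op U)
        ((seqComp S φ hφ s n).hom.app (op U) t)) = _
      rw [← germ_naturality, h1, map_zero, map_zero]
    obtain ⟨W, g, w, hw, he⟩ := (germ_eq_iff ξ G U x _ _).1 h2
    obtain ⟨V, k, v, hV, hk⟩ := exists_affine_nbhd ξ W w
    have h3 : φ.hom.app (op V) (F.obj.map (k ≫ g).op t) = φ.hom.app (op V) 0 := by
      rw [map_zero]
      refine (NatTrans.naturality_apply φ.hom (k ≫ g).op t).trans ?_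
      show res G (k ≫ g) _ = 0
      rw [res_comp]
      exact (congrArg (res G k) he).trans (by simp [LccRepLib.res])
    obtain ⟨a, ha⟩ := (hφ V hV).exists_of_eq (x₁ := F.obj.map (k ≫ g).op t) (x₂ := 0) h3
    obtain ⟨N, hN, e, hmap⟩ := exists_seqDiagram_dvd S s F hs a n
    have h4 : (EtCoh.stalk ξ).map (((e : ℤ) * (a : ℤ)) • 𝟙 F) (germ ξ F U x t) = 0 := by
      rw [germ_naturality, zsmul_id_app, ← hw, ← hk, ← EtConsAb.fiber_map_comp, ← germ_res,
        map_zsmul (F.obj.map (k ≫ g).op).hom]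
      have : ((e : ℤ) * (a : ℤ)) • F.obj.map (k ≫ g).op t = 0 := by
        rw [mul_smul]
        exact (congrArg ((e : ℤ) • ·) ha).trans (by simp)
      rw [this, map_zero]
    have h5 := ConcreteCategory.congr_hom
      (((EtCoh.stalk ξ).mapCocone (colimit.cocone D)).w (homOfLE hN)) (germ ξ F U x t)
    refine h5.symm.trans ?_
    show (EtCoh.stalk ξ).map (colimit.ι D N) ((EtCoh.stalk ξ).map (D.map (homOfLE hN)) _) = 0
    exact (congrArg ((EtCoh.stalk ξ).map (colimit.ι D N))
      ((congrArg (fun q : F ⟶ F => (EtCoh.stalk ξ).map q (germ ξ F U x t)) hmap).trans h4)).trans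
        (map_zero _)
  · obtain ⟨U, x, t, rfl⟩ := exists_germ_eq ξ G p
    obtain ⟨V, k, v, hV, hk⟩ := exists_affine_nbhd ξ U x
    obtain ⟨⟨f, a⟩, hf⟩ := (hφ V hV).surj (G.obj.map k.op t)
    obtain ⟨N, hN, e, hmap⟩ := exists_seqDiagram_dvd S s F hs a 0
    refine ⟨(EtCoh.stalk ξ).map (colimit.ι D N) (germ ξ F V v ((e : ℤ) • f)), ?_⟩
    refine (ConcreteCategory.congr_hom (hfac N) _).trans ?_
    refine (germ_naturality ξ (seqComp S φ hφ s N) V v _).trans ?_
    rw [← hk, ← germ_res]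
    refine congrArg (germ ξ G V v) ?_
    have h0 : ((e : ℤ) * (a : ℤ)) • 𝟙 F ≫ seqComp S φ hφ s N = φ := by
      have := (seqCocone S φ hφ s).w (homOfLE hN)
      refine (Preadditive.zsmul_comp _ _ _).symm.trans ?_
      rw [← hmap]
      exact this.trans (seqComp_zero S φ hφ s)
    have h6 : ((e : ℤ) * (a : ℤ)) • (seqComp S φ hφ s N).hom.app (op V) f =
        φ.hom.app (op V) f := by
      refine Eq.trans ?_ (congrArg (fun q : F ⟶ G => q.hom.app (op V) f) h0)
      exact ((congrArg (fun q : F ⟶ G => (((e : ℤ) * (a : ℤ)) • q).hom.app (op V) f)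
        (Category.id_comp (seqComp S φ hφ s N))).trans
          (map_zsmul (AddMonoidHom.mk' (fun q : F ⟶ G => q.hom.app (op V) f) fun _ _ => rfl)
            _ _)).symm
    have hb := (Module.End.isUnit_iff _).1 ((hφ V hV).map_units a)
    refine hb.1 ?_
    show (a : ℤ) • (seqComp S φ hφ s N).hom.app (op V) ((e : ℤ) • f) = (a : ℤ) • G.obj.map k.op t
    rw [map_zsmul, smul_smul, mul_comm, h6]
    exact hf.symm

end Groth.Agent.EtLocalize
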